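import Mathlib
import Groth.Agent.FibrePP.Main
import Groth.Agent.Sol.Scheme
import Groth.Agent.AModX.Res
import Groth.Agent.Lib.BasisHom
import Groth.Prelude.Def_Coh

/-!
# Classes of `H¹(O)` killed off the closed fibre of a modification of a normal surface germ

A one-cocycle of a resolution of the structure sheaf which bounds away from the closed fibre bounds.
-/

set_option autoImplicit false
set_option linter.style.haveILetI false
set_option linter.unusedSectionVars false
set_option backward.isDefEq.respectTransparency false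
set_option backward.isDefEq.respectTransparency.types false
set_option maxHeartbeats 800000

universe u

open CategoryTheory CategoryTheory.Limits AlgebraicGeometry TopologicalSpace IsLocalRing Opposite
open Groth.Agent.FibrePP (O)
open Groth.Agent.AModX (res res_res app_res)
open Groth.Agent.Sol (toFF toFF_res toFF_mem toFF_eq toFF_injective)

noncomputable section

namespace Groth.Agent.GRVal

variable {X : Scheme.{u}}

/-- Sections killed by the second map of an exact sequence lift locally. -/
theorem exists_local_lift {S : ShortComplex X.Modules} (hS : S.Exact) {W : X.Opens} {x : X} (hx : x ∈ W)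
    (s : Γ(S.X₂, W)) (h : S.g.app W s = 0) :
    ∃ (V : X.Opens) (hV : V ≤ W), x ∈ V ∧ ∃ a, S.f.app V a = res S.X₂ hV s := by
  haveI := ShortComplex.exact_iff_epi_kernel_lift S |>.1 hS
  let T : ShortComplex X.Modules := ShortComplex.mk (kernel.ι S.g) S.g (kernel.condition S.g)
  obtain ⟨y, hy⟩ := BasisHom.exists_app_eq_of_exact (S := T)
    (ShortComplex.exact_of_f_is_kernel _ (kernelIsKernel S.g)) W s h
  let e := kernel.lift S.g S.f S.zero
  haveI : PreservesFiniteColimits (QCoh.toAbFunctor X) :=
    (QCoh.toAbFunctor X).preservesFiniteColimits_of_preservesHomology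
  haveI : Epi ((QCoh.toAbFunctor X).map e) := inferInstance
  haveI := (Sheaf.isLocallySurjective_iff_epi' _ ((QCoh.toAbFunctor X).map e)).2 inferInstance
  obtain ⟨V, i, ⟨a, ha⟩, hxV⟩ :=
    Presheaf.imageSieve_mem (Opens.grothendieckTopology X) ((QCoh.toAbFunctor X).map e).hom (U := op W) y x hx
  refine ⟨V, i.le, hxV, a, ?_⟩
  have h1 : e.app V a = res (kernel S.g) i.le y := ha
  rw [← hy, ← app_res (kernel.ι S.g) i.le y, ← h1]
  exact (congr(($(kernel.lift_ι S.g S.f S.zero)).app V a)).symm

variable [IsIntegral X]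

/-- Sections of the structure module as functions. -/
abbrev toSec {U : X.Opens} (c : Γ(Coh.structureModule X, U)) : Γ(X, U) := c

theorem toFF_res' {U V : X.Opens} (h : V ≤ U) {x : X} (hx : x ∈ V) (c : Γ(Coh.structureModule X, U)) :
    toFF V hx (toSec (res (Coh.structureModule X) h c)) = toFF U (h hx) (toSec c) :=
  toFF_res h hx (toSec c)

variable {A : Type u} [CommRing A] [IsDomain A] [IsLocalRing A] [IsNoetherianRing A] [IsIntegrallyClosed A]

theorem exists_global_primitive (hdim : ringKrullDim A = 2) (f : X ⟶ Spec (CommRingCat.of A)) [IsProper f]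
    (hbir : ∃ U : (Spec (CommRingCat.of A)).Opens, (U : Set (Spec (CommRingCat.of A))).Nonempty ∧ IsIso (f ∣_ U))
    (hXn : Pi1.IsNormalScheme X) {I₀ I₁ I₂ : X.Modules} (η : Coh.structureModule X ⟶ I₀) [Mono η]
    (d₀ : I₀ ⟶ I₁) (d₁ : I₁ ⟶ I₂) (w₀ : η ≫ d₀ = 0) (w₁ : d₀ ≫ d₁ = 0)
    (h₀ : (ShortComplex.mk η d₀ w₀).Exact) (h₁ : (ShortComplex.mk d₀ d₁ w₁).Exact)
    (z : Γ(I₁, ⊤)) (hz : d₁.app ⊤ z = 0) (V : X.Opens)
    (hV : ∀ x : X, (f x : PrimeSpectrum A) ≠ closedPoint A → x ∈ V)
    (y : Γ(I₀, V)) (hy : d₀.app V y = res I₁ (le_top : V ≤ ⊤) z) :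
    ∃ Y : Γ(I₀, ⊤), d₀.app ⊤ Y = z := by
  haveI : Mono (ShortComplex.mk η d₀ w₀).f := ‹Mono η›
  have hgV : genericPoint X ∈ V := by
    obtain ⟨U, hU, hiso⟩ := hbir
    haveI := hiso
    refine hV _ fun h => ?_
    have h1 : (f (genericPoint X) : PrimeSpectrum A).asIdeal = ⊥ := by
      haveI : IsDomain (CommRingCat.of A) := ‹IsDomain A›
      rw [H26.BiratFibre.apply_genericPoint_eq f hU, AlgebraicGeometry.genericPoint_eq_bot_of_affine]
      rfl
    rw [h] at h1
    have h2 := IsLocalRing.maximalIdeal_height_eq_ringKrullDim (R := A)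
    rw [hdim, show maximalIdeal A = ⊥ from h1, Ideal.height_bot] at h2
    exact absurd h2 (by norm_num)
  -- local primitives
  choose W hW hxW p hp using fun x : X =>
    exists_local_lift h₁ (W := ⊤) (x := x) trivial z hz
  have hgW : ∀ x, genericPoint X ∈ W x := fun x =>
    (genericPoint_specializes x).mem_open (W x).isOpen (hxW x)
  -- differences are functions
  have hc : ∀ x, ∃ c : Γ(Coh.structureModule X, W x ⊓ V),
      η.app _ c = res I₀ inf_le_left (p x) - res I₀ inf_le_right y := fun x =>
    BasisHom.exists_app_eq_of_exact h₀ _ _ (by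
      show d₀.app _ _ = 0
      rw [map_sub, app_res, app_res, hp, hy, res_res, res_res, sub_self])
  choose c hc using hc
  have hcc : ∀ x x', ∃ c : Γ(Coh.structureModule X, W x ⊓ W x'),
      η.app _ c = res I₀ inf_le_left (p x) - res I₀ inf_le_right (p x') := fun x x' =>
    BasisHom.exists_app_eq_of_exact h₀ _ _ (by
      show d₀.app _ _ = 0
      rw [map_sub, app_res, app_res, hp, hp, res_res, res_res, sub_self])
  choose cc hcc using hcc
  let g : X → X.functionField := fun x => toFF (W x ⊓ V) (x := genericPoint X) ⟨hgW x, hgV⟩ (toSec (c x))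
  have hg : ∀ x x', toFF (W x ⊓ W x') (x := genericPoint X) ⟨hgW x, hgW x'⟩ (toSec (cc x x')) = g x - g x' := by
    intro x x'
    let T : X.Opens := W x ⊓ W x' ⊓ V
    have hT : genericPoint X ∈ T := ⟨⟨hgW x, hgW x'⟩, hgV⟩
    have e1 : T ≤ W x ⊓ W x' := inf_le_left
    have e2 : T ≤ W x ⊓ V := le_inf (e1.trans inf_le_left) inf_le_right
    have e3 : T ≤ W x' ⊓ V := le_inf (e1.trans inf_le_right) inf_le_right
    have h : res (Coh.structureModule X) e1 (cc x x') =
        res (Coh.structureModule X) e2 (c x) - res (Coh.structureModule X) e3 (c x') := by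
      refine QCoh.app_injective η T ?_
      rw [map_sub, app_res, app_res, app_res, hc, hc, hcc, map_sub, map_sub, map_sub, res_res, res_res, res_res,
        res_res, res_res, res_res]
      abel
    have h2 := congrArg (fun s => toFF T hT (toSec s)) h
    replace h2 : toFF T hT (toSec (res (Coh.structureModule X) e1 (cc x x'))) =
      toFF T hT (toSec (res (Coh.structureModule X) e2 (c x)) - toSec (res (Coh.structureModule X) e3 (c x'))) := h2
    rw [toFF_res' e1 hT] at h2
    refine h2.trans ((map_sub (toFF T hT) _ _).trans ?_)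
    rw [toFF_res' e2 hT, toFF_res' e3 hT]
  have hgO : ∀ x, g x ∈ O x := by
    refine FibrePP.mem_O_of_fibre hdim f hbir hXn g (fun ξ x h => ?_) (fun x hx => ?_)
    · rw [← hg]
      exact toFF_mem (W ξ ⊓ W x) (x := genericPoint X) ⟨hgW ξ, hgW x⟩
        (show ξ ∈ W ξ ⊓ W x from ⟨hxW ξ, h.mem_open (W x).isOpen (hxW x)⟩) _
    · exact toFF_mem (W x ⊓ V) (x := genericPoint X) ⟨hgW x, hgV⟩ (show x ∈ W x ⊓ V from ⟨hxW x, hV x hx⟩) _
  -- correct the local primitives
  have hs : ∀ x, ∃ (U : X.Opens) (hU : U ≤ W x) (hxU : x ∈ U) (s : Γ(Coh.structureModule X, U)),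
      toFF U hxU (toSec s) = g x := fun x => by
    obtain ⟨r, hr⟩ := hgO x
    obtain ⟨U₀, hxU₀, s, rfl⟩ := X.presheaf.exists_germ_eq (x := x) r
    refine ⟨U₀ ⊓ W x, inf_le_right, ⟨hxU₀, hxW x⟩,
      res (Coh.structureModule X) inf_le_left (show Γ(Coh.structureModule X, U₀) from s), ?_⟩
    rw [toFF_res', ← hr]
    exact toFF_eq U₀ hxU₀ s
  choose U hU hxU s hs using hs
  let q : ∀ x, Γ(I₀, U x) := fun x => res I₀ (hU x) (p x) - η.app (U x) (s x)
  obtain ⟨Y, hY, -⟩ := AModX.existsUnique_glue (M := I₀) (V := ⊤) U (fun _ => le_top)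
    (fun x _ => ⟨x, hxU x⟩) q fun x x' => by
    let T : X.Opens := U x ⊓ U x'
    have eW : T ≤ W x ⊓ W x' := inf_le_inf (hU x) (hU x')
    have hT : genericPoint X ∈ T :=
      ⟨(genericPoint_specializes x).mem_open (U x).isOpen (hxU x),
        (genericPoint_specializes x').mem_open (U x').isOpen (hxU x')⟩
    have h : res (Coh.structureModule X) eW (cc x x') =
        res (Coh.structureModule X) inf_le_left (s x) - res (Coh.structureModule X) inf_le_right (s x') := by
      refine toFF_injective T hT ?_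
      show toFF T hT (toSec _) = toFF T hT (toSec _ - toSec _)
      rw [map_sub, toFF_res', toFF_res', toFF_res']
      exact (hg x x').trans (congrArg₂ (· - ·) (hs x).symm (hs x').symm)
    have h3 := congrArg (η.app T) h
    rw [map_sub, app_res, app_res, app_res, hcc, map_sub, res_res, res_res] at h3
    show res I₀ _ (res I₀ _ (p x) - η.app _ (s x)) = res I₀ _ (res I₀ _ (p x') - η.app _ (s x'))
    rw [map_sub, map_sub, res_res, res_res, sub_eq_sub_iff_sub_eq_sub]
    exact h3
  refine ⟨Y, AModX.eq_of_locally _ _ fun x _ => ⟨U x, le_top, hxU x, ?_⟩⟩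
  rw [← app_res, hY, map_sub, app_res, hp, res_res]
  have h0 : d₀.app (U x) (η.app (U x) (s x)) = 0 :=
    QCoh.app_g_f (S := ShortComplex.mk η d₀ w₀) (U x) (s x)
  rw [h0, sub_zero]

end Groth.Agent.GRVal
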