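import Mathlib
import Groth.Agent.FibrePP.Main
import Groth.Agent.Sol.Scheme
import Groth.Agent.KFlatLib.Scheme.AffineSections
import Groth.Agent.AModX.Res

/-!
# Torsion sheaves on the punctured spectrum and maps out of the maximal ideal
-/

set_option autoImplicit false
set_option linter.style.haveILetI false
set_option linter.unusedSectionVars false
set_option backward.isDefEq.respectTransparency false
set_option backward.isDefEq.respectTransparency.types false
set_option maxHeartbeats 800000

universe u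

open CategoryTheory CategoryTheory.Limits AlgebraicGeometry TopologicalSpace IsLocalRing Opposite
open Groth.Agent.FibrePP (O)
open Groth.Agent.Sol (toFF toFF_eq toFF_mem toFF_injective)

noncomputable section

namespace Groth.Agent.GRVal

/-- A module killed by the maximal ideal gives a sheaf without sections off the closed point. -/
theorem tilde_section_eq_zero {R : CommRingCat.{u}} [IsLocalRing R] (M : ModuleCat.{u} R)
    (hM : ∀ t ∈ maximalIdeal R, ∀ k : M, t • k = 0) (W : (Spec R).Opens)
    (hW : (closedPoint R : PrimeSpectrum R) ∉ W) (s : Γ((tilde.functor R).obj M, W)) : s = 0 := by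
  change Γ(tilde M, W) at s
  refine QCoh.eq_zero_of_locally (M := tilde M) W s fun x hx => ?_
  obtain ⟨_, ⟨t, rfl⟩, hxt, htW⟩ := Opens.isBasis_iff_nbhd.1 PrimeSpectrum.isBasis_basic_opens (U := W) hx
  have htm : t ∈ maximalIdeal R := by
    by_contra ht
    exact hW (htW (show closedPoint R ∈ PrimeSpectrum.basicOpen t from ht))
  refine ⟨PrimeSpectrum.basicOpen t, homOfLE htW, hxt, ?_⟩
  let D : (Spec R).Opens := PrimeSpectrum.basicOpen t
  let s' : Γ(tilde M, D) := (tilde M).presheaf.map (homOfLE htW).op s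
  show s' = 0
  obtain ⟨⟨k, d⟩, hk⟩ := IsLocalizedModule.surj (.powers t) (tilde.toOpen M (PrimeSpectrum.basicOpen t)).hom s'
  obtain ⟨n, hn⟩ := d.2
  have h1 : t ^ (n + 1) • s' = 0 := by
    have h2 : t • (tilde.toOpen M (PrimeSpectrum.basicOpen t)).hom k = 0 := by
      rw [← map_smul, hM t htm, map_zero]
    rw [← h2, pow_succ', mul_smul]
    refine congrArg (t • ·) ?_
    refine Eq.trans ?_ hk
    exact congrArg (fun r : R => r • s') hn
  exact ((Module.End.isUnit_iff _).1
    ((Scheme.Modules.isUnit_algebraMap_end_of_le_basicOpen (M := tilde M) t le_rfl).pow (n + 1))).1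
    (by rw [← map_pow]; exact h1.trans (map_zero _).symm)

variable {A : Type u} [CommRing A] {X : Scheme.{u}} (f : X ⟶ Spec (CommRingCat.of A))

/-- Functions from the base. -/
def baseHom : A →+* Γ(X, ⊤) := ((Scheme.ΓSpecIso (CommRingCat.of A)).inv ≫ f.appTop).hom

theorem germ_baseHom (x : X) (a : A) : X.presheaf.germ ⊤ x trivial (baseHom f a) = FibrePP.ι f x a := by
  have h : CommRingCat.ofHom (FibrePP.ι f x) =
      (Scheme.ΓSpecIso (CommRingCat.of A)).inv ≫ f.appTop ≫ X.presheaf.germ ⊤ x trivial := by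
    apply Spec.map_injective
    rw [FibrePP.specMap_ι, Spec.map_comp, Spec.map_comp, Category.assoc, ← Scheme.fromSpecStalk_toSpecΓ,
      Category.assoc, ← Scheme.toSpecΓ_naturality_assoc]
    rw [← SpecMap_ΓSpecIso_hom, ← Spec.map_comp, Iso.inv_hom_id, Spec.map_id, Category.comp_id]
  exact (congrArg (fun k => k.hom a) h).symm

variable [IsIntegral X]

theorem toFF_baseHom (x : X) (a : A) : toFF (⊤ : X.Opens) (x := x) trivial (baseHom f a) = FibrePP.toK f a := by
  rw [toFF_eq (⊤ : X.Opens) (x := x) trivial, germ_baseHom, FibrePP.algebraMap_ι]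

variable [IsDomain A] [IsLocalRing A] [IsNoetherianRing A] [IsIntegrallyClosed A]

/-- Maps out of the maximal ideal into the functions of a normal modification of a normal surface germ
are restrictions of multiplications. -/
theorem exists_eq_mul (hdim : ringKrullDim A = 2) [IsProper f]
    (hbir : ∃ U : (Spec (CommRingCat.of A)).Opens, (U : Set (Spec (CommRingCat.of A))).Nonempty ∧ IsIso (f ∣_ U))
    (hXn : Pi1.IsNormalScheme X) (h : maximalIdeal A → Γ(X, ⊤))
    (hh : ∀ (r : A) (a : maximalIdeal A), h (r • a) = baseHom f r * h a) :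
    ∃ S : Γ(X, ⊤), ∀ a, h a = baseHom f a * S := by
  classical
  have hgen : (f (genericPoint X) : PrimeSpectrum A).asIdeal = ⊥ := by
    obtain ⟨U, hU, hiso⟩ := hbir
    haveI := hiso
    haveI : IsDomain (CommRingCat.of A) := ‹IsDomain A›
    rw [H26.BiratFibre.apply_genericPoint_eq f hU, AlgebraicGeometry.genericPoint_eq_bot_of_affine]
    rfl
  have hmbot : maximalIdeal A ≠ ⊥ := fun h0 => by
    have h2 := IsLocalRing.maximalIdeal_height_eq_ringKrullDim (R := A)
    rw [hdim, h0, Ideal.height_bot] at h2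
    exact absurd h2 (by norm_num)
  obtain ⟨a₀, ha₀m, ha₀⟩ := Submodule.exists_mem_ne_zero_of_ne_bot hmbot
  let v : Γ(X, ⊤) →+* X.functionField := toFF (⊤ : X.Opens) (x := genericPoint X) trivial
  have hvb : ∀ a, v (baseHom f a) = FibrePP.toK f a := toFF_baseHom f _
  have hne : ∀ {a : A}, a ≠ 0 → FibrePP.toK f a ≠ 0 := FibrePP.toK_ne_zero f hgen
  set c := v (h ⟨a₀, ha₀m⟩) / FibrePP.toK f a₀ with hc
  have hall : ∀ a : maximalIdeal A, v (h a) = FibrePP.toK f a * c := fun a => by
    have e : h ((a : A) • ⟨a₀, ha₀m⟩) = h (a₀ • a) := congrArg h (Subtype.ext (mul_comm _ _))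
    rw [hh, hh] at e
    have e' := congrArg v e
    rw [map_mul, map_mul, hvb, hvb] at e'
    rw [hc, ← mul_div_assoc, e']
    field_simp [hne ha₀]
  have hcO : ∀ x, c ∈ O x := by
    refine FibrePP.mem_O_of_fibre hdim f hbir hXn (fun _ => c)
      (fun ξ x _ => by simp [zero_mem]) (fun x hx => ?_)
    obtain ⟨a, ham, hax⟩ : ∃ a ∈ maximalIdeal A, a ∉ (f x : PrimeSpectrum A).asIdeal :=
      Set.not_subset.1 fun hle => hx (PrimeSpectrum.ext
        (le_antisymm (le_maximalIdeal (f x : PrimeSpectrum A).isPrime.ne_top) hle))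
    have ha : a ≠ 0 := fun e => hax (e ▸ zero_mem _)
    rw [FibrePP.mem_point_iff, IsLocalRing.mem_maximalIdeal, mem_nonunits_iff, not_not] at hax
    obtain ⟨w, hw⟩ := hax
    obtain ⟨r, hr⟩ := toFF_mem (⊤ : X.Opens) (x := genericPoint X) trivial (y := x) trivial (h ⟨a, ham⟩)
    refine ⟨((w⁻¹ : (X.presheaf.stalk x)ˣ) : X.presheaf.stalk x) * r, ?_⟩
    rw [map_mul, hr]
    have e : algebraMap _ X.functionField (w : X.presheaf.stalk x) = FibrePP.toK f a := by
      rw [hw, FibrePP.algebraMap_ι]
    rw [show toFF (⊤ : X.Opens) _ (h ⟨a, ham⟩) = v (h ⟨a, ham⟩) from rfl, hall, ← e, ← mul_assoc, ← map_mul,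
      Units.inv_mul, map_one, one_mul]
  obtain ⟨S, hS⟩ := Sol.exists_section_of_mem (⊤ : X.Opens) (x₀ := genericPoint X) trivial c fun x _ => hcO x
  refine ⟨S, fun a => toFF_injective (⊤ : X.Opens) (x := genericPoint X) trivial ?_⟩
  rw [map_mul]
  exact (hall a).trans (congrArg₂ (· * ·) (hvb _).symm hS.symm)

end Groth.Agent.GRVal
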