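import Mathlib
import Groth.Agent.GRVal.Glue
import Groth.Agent.GRVal.Sections
import Groth.Agent.KFlatLib.Scheme.AffineConservative
import Groth.Agent.KFlatLib.Scheme.RGammaPush
import Groth.Agent.KFlatLib.Scheme.TildeD

/-!
# Maps from shifted torsion sheaves to `Rf_* O` vanish on the structure sheaf
-/

set_option autoImplicit false
set_option linter.style.haveILetI false
set_option linter.unusedSectionVars false
set_option backward.isDefEq.respectTransparency false
set_option backward.isDefEq.respectTransparency.types false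
set_option maxHeartbeats 800000

universe u

open CategoryTheory CategoryTheory.Limits AlgebraicGeometry TopologicalSpace IsLocalRing Opposite
open Groth.Agent.AModX (res res_res app_res)
open Groth.Agent.KFlatLib (secObj secEquiv secEquiv_naturality)

attribute [local instance] HasDerivedCategory.standard

noncomputable section

namespace Groth.Agent.GRVal

variable {X Y : Scheme.{u}} (f : X ⟶ Y)

/-- The direct image of complexes. -/
abbrev pf : CochainComplex X.Modules ℤ ⥤ CochainComplex Y.Modules ℤ :=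
  (Scheme.Modules.pushforward f).mapHomologicalComplex (ComplexShape.up ℤ)

/-- Homotopy classes compute morphisms from K-flat complexes to direct images of K-injective complexes. -/
theorem exists_Q_map_push {P : CochainComplex Y.Modules ℤ} (hP : DCoh.IsKFlat P)
    {I : CochainComplex X.Modules ℤ} [I.IsKInjective]
    (a : DerivedCategory.Q.obj P ⟶ DerivedCategory.Q.obj ((pf f).obj I)) :
    ∃ g : P ⟶ (pf f).obj I, DerivedCategory.Q.map g = a := by
  obtain ⟨g', hg'⟩ := (KFlatLib.Qh_map_bijective_push f P hP I).2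
      ((DerivedCategory.quotientCompQhIso Y.Modules).hom.app P ≫ a ≫
        (DerivedCategory.quotientCompQhIso Y.Modules).inv.app ((pf f).obj I))
  obtain ⟨g, rfl⟩ := (HomotopyCategory.quotient Y.Modules _).map_surjective
    (show (HomotopyCategory.quotient Y.Modules _).obj P ⟶ (HomotopyCategory.quotient Y.Modules _).obj ((pf f).obj I)
      from g')
  refine ⟨g, ?_⟩
  have := (DerivedCategory.quotientCompQhIso Y.Modules).hom.naturality g
  simp only [Functor.comp_map] at this
  rw [← cancel_epi ((DerivedCategory.quotientCompQhIso Y.Modules).hom.app P)]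
  refine this.symm.trans ((congrArg (· ≫ _) hg').trans ?_)
  erw [Category.assoc, Category.assoc, Iso.inv_hom_id_app, Category.comp_id]

theorem homotopy_of_Q_map_eq_zero {P : CochainComplex Y.Modules ℤ} (hP : DCoh.IsKFlat P)
    {I : CochainComplex X.Modules ℤ} [I.IsKInjective] (g : P ⟶ (pf f).obj I)
    (h : DerivedCategory.Q.map g = 0) : Nonempty (Homotopy g 0) := by
  refine ⟨HomotopyCategory.homotopyOfEq _ _ ((KFlatLib.Qh_map_bijective_push f P hP I).1 ?_)⟩
  show DerivedCategory.Qh.map ((HomotopyCategory.quotient Y.Modules _).map g) =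
    DerivedCategory.Qh.map ((HomotopyCategory.quotient Y.Modules _).map 0)
  rw [← cancel_mono ((DerivedCategory.quotientCompQhIso Y.Modules).hom.app ((pf f).obj I))]
  refine ((DerivedCategory.quotientCompQhIso Y.Modules).hom.naturality g).trans ?_
  rw [h, comp_zero, Functor.map_zero, Functor.map_zero, zero_comp]

theorem isKFlat_single_secObj (n : ℤ) (V : Y.Opens) :
    DCoh.IsKFlat ((HomologicalComplex.single Y.Modules (ComplexShape.up ℤ) n).obj (secObj V)) :=
  KFlatLib.isKFlat_of_isStrictlyLE _ n (KFlatLib.isFlat_single n (KFlatLib.isFlat_secObj V))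

theorem d_eq_of_homotopy {M : Y.Modules} {J : CochainComplex Y.Modules ℤ}
    {g : (HomologicalComplex.single Y.Modules (ComplexShape.up ℤ) 1).obj M ⟶ J} (H : Homotopy g 0) :
    ∃ h : M ⟶ J.X 0, h ≫ J.d 0 1 =
      (HomologicalComplex.singleObjXSelf (ComplexShape.up ℤ) 1 M).inv ≫ g.f 1 := by
  refine ⟨(HomologicalComplex.singleObjXSelf (ComplexShape.up ℤ) 1 M).inv ≫ H.hom 1 0, ?_⟩
  rw [H.comm 1, dNext_eq _ (show (ComplexShape.up ℤ).Rel 1 2 from rfl),
    prevD_eq _ (show (ComplexShape.up ℤ).Rel 0 1 from rfl), HomologicalComplex.single_obj_d, zero_comp, zero_add,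
    HomologicalComplex.zero_f, add_zero, Category.assoc]

theorem Q_map_eq_zero_of_d {M : Y.Modules} {J : CochainComplex Y.Modules ℤ}
    (g : (HomologicalComplex.single Y.Modules (ComplexShape.up ℤ) 1).obj M ⟶ J) (h : M ⟶ J.X 0)
    (hh : h ≫ J.d 0 1 = (HomologicalComplex.singleObjXSelf (ComplexShape.up ℤ) 1 M).inv ≫ g.f 1) :
    DerivedCategory.Q.map g = 0 := by
  let sx := HomologicalComplex.singleObjXSelf (ComplexShape.up ℤ) 1 M
  refine (DerivedCategory.Q_map_eq_of_homotopy _ (g := 0)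
    { hom := fun p q => if e : p = 1 ∧ q = 0 then
        (((HomologicalComplex.single Y.Modules (ComplexShape.up ℤ) 1).obj M).XIsoOfEq e.1).hom ≫
          sx.hom ≫ h ≫ (J.XIsoOfEq e.2).inv else 0
      zero := fun p q hpq => dif_neg fun e => hpq (by rw [e.1, e.2]; rfl)
      comm := fun p => ?_ }).trans (Functor.map_zero _ _ _)
  by_cases hp : p = 1
  · subst hp
    rw [dNext_eq _ (show (ComplexShape.up ℤ).Rel 1 2 from rfl),
      prevD_eq _ (show (ComplexShape.up ℤ).Rel 0 1 from rfl),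
      HomologicalComplex.single_obj_d, zero_comp, zero_add, dif_pos (And.intro rfl rfl),
      HomologicalComplex.zero_f, add_zero]
    simp only [HomologicalComplex.XIsoOfEq_rfl, Iso.refl_hom, Iso.refl_inv, Category.id_comp,
      Category.comp_id, Category.assoc]
    rw [hh, Iso.hom_inv_id_assoc]
  · exact (HomologicalComplex.isZero_single_obj_X _ _ _ _ hp).eq_of_src _ _

variable {A : Type u} [CommRing A] [IsDomain A] [IsLocalRing A] [IsNoetherianRing A] [IsIntegrallyClosed A]

theorem single_map_comp_eq_zero (hdim : ringKrullDim A = 2) {X : Scheme.{u}} [IsIntegral X]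
    (f : X ⟶ Spec (CommRingCat.of A)) [IsProper f]
    (hbir : ∃ U : (Spec (CommRingCat.of A)).Opens, (U : Set (Spec (CommRingCat.of A))).Nonempty ∧ IsIso (f ∣_ U))
    (hXn : Pi1.IsNormalScheme X) (R : InjectiveResolution (Coh.structureModule X))
    {Mq : (Spec (CommRingCat.of A)).Modules}
    (hMq : ∀ W : (Spec (CommRingCat.of A)).Opens, (closedPoint A : PrimeSpectrum A) ∉ W → ∀ s : Γ(Mq, W), s = 0)
    (p : secObj (⊤ : (Spec (CommRingCat.of A)).Opens) ⟶ Mq)
    (θ : DerivedCategory.Q.obj ((HomologicalComplex.single _ (ComplexShape.up ℤ) 1).obj Mq) ⟶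
      DerivedCategory.Q.obj (((Scheme.Modules.pushforward f).mapHomologicalComplex (ComplexShape.up ℤ)).obj
        R.cochainComplex)) :
    DerivedCategory.Q.map ((HomologicalComplex.single _ (ComplexShape.up ℤ) 1).map p) ≫ θ = 0 := by
  let S := Spec (CommRingCat.of A)
  let F := Scheme.Modules.pushforward f
  haveI : R.cochainComplex.IsKInjective := CochainComplex.isKInjective_of_injective _ 0
  let I := R.cochainComplex
  let J := (F.mapHomologicalComplex (ComplexShape.up ℤ)).obj I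
  obtain ⟨x₀, hx₀⟩ := exists_Q_map_push f (isKFlat_single_secObj 1 ⊤)
    (DerivedCategory.Q.map ((HomologicalComplex.single _ (ComplexShape.up ℤ) 1).map p) ≫ θ)
  rw [← hx₀]
  let M := secObj (⊤ : S.Opens)
  let xm : M ⟶ J.X 1 := (HomologicalComplex.singleObjXSelf (ComplexShape.up ℤ) 1 M).inv ≫ x₀.f 1
  have hxm : xm ≫ J.d 1 2 = 0 := by
    show ((HomologicalComplex.singleObjXSelf (ComplexShape.up ℤ) 1 M).inv ≫ x₀.f 1) ≫ J.d 1 2 = 0
    rw [Category.assoc, x₀.comm, HomologicalComplex.single_obj_d, zero_comp, comp_zero]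
  -- the punctured spectrum
  let V : S.Opens := ⟨{closedPoint A}ᶜ, (isClosed_singleton_closedPoint A).isOpen_compl⟩
  have hUT : (⊤ : S.Opens).ι ''ᵁ ⊤ = ⊤ := Scheme.Opens.ι_image_top _
  have hUV : V.ι ''ᵁ ⊤ = V := Scheme.Opens.ι_image_top _
  have hle : V.ι ''ᵁ ⊤ ≤ (⊤ : S.Opens).ι ''ᵁ ⊤ := hUT.symm ▸ le_top
  let ε : secObj V ⟶ M := (secEquiv V M).symm (res M hle (secEquiv ⊤ M (𝟙 M)))
  have hεp : ε ≫ p = 0 := (secEquiv V Mq).injective ((hMq (V.ι ''ᵁ ⊤) (by
      rw [hUV]
      exact fun h => h rfl) _).trans (hMq _ (by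
      rw [hUV]
      exact fun h => h rfl) _).symm)
  have hQ : DerivedCategory.Q.map ((HomologicalComplex.single _ (ComplexShape.up ℤ) 1).map ε ≫ x₀) = 0 := by
    rw [Functor.map_comp, hx₀, ← Category.assoc, ← Functor.map_comp, ← Functor.map_comp, hεp, Functor.map_zero,
      Functor.map_zero, zero_comp]
  obtain ⟨Hh⟩ := homotopy_of_Q_map_eq_zero f (isKFlat_single_secObj 1 V) _ hQ
  obtain ⟨h, hh⟩ := d_eq_of_homotopy Hh
  have hh' : h ≫ J.d 0 1 = ε ≫ xm := by
    rw [hh, HomologicalComplex.comp_f, HomologicalComplex.single_map_f_self]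
    simp only [Category.assoc, Iso.inv_hom_id_assoc]
    rfl
  -- sections
  let z₀ : Γ(J.X 1, (⊤ : S.Opens).ι ''ᵁ ⊤) := secEquiv ⊤ _ xm
  have hz₀ : (J.d 1 2).app _ z₀ = 0 := by
    show (J.d 1 2).app _ (secEquiv ⊤ _ xm) = 0
    rw [← secEquiv_naturality, hxm]
    rw [show (0 : M ⟶ J.X 2) = xm ≫ (0 : J.X 1 ⟶ J.X 2) from comp_zero.symm, secEquiv_naturality]
    rfl
  have hy₀ : (J.d 0 1).app _ (secEquiv V _ h) = res (J.X 1) hle z₀ := by
    rw [← secEquiv_naturality, hh', secEquiv_naturality]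
    show xm.app _ (secEquiv V M ((secEquiv V M).symm _)) = _
    rw [Equiv.apply_symm_apply, app_res, ← secEquiv_naturality, Category.id_comp]
  -- transport to the source
  let W : X.Opens := f ⁻¹ᵁ ((⊤ : S.Opens).ι ''ᵁ ⊤)
  have hW : (⊤ : X.Opens) ≤ W := fun x _ => (show f x ∈ (⊤ : S.Opens).ι ''ᵁ ⊤ by rw [hUT]; trivial)
  let U : X.Opens := f ⁻¹ᵁ (V.ι ''ᵁ ⊤)
  have hU : ∀ x : X, (f x : PrimeSpectrum A) ≠ closedPoint A → x ∈ U := fun x hx =>
    (show f x ∈ V.ι ''ᵁ ⊤ by rw [hUV]; exact hx)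
  let z : Γ(I.X 1, ⊤) := res (I.X 1) hW (show Γ(I.X 1, W) from z₀)
  let η : Coh.structureModule X ⟶ I.X 0 := R.ι.f 0 ≫ (R.cochainComplexXIso 0 0 rfl).inv
  haveI : Mono η := by
    haveI : Mono (R.ι.f 0) := inferInstance
    exact mono_comp' inferInstance inferInstance
  have w₀ : η ≫ I.d 0 1 = 0 := by
    show (R.ι.f 0 ≫ _) ≫ _ = 0
    rw [R.cochainComplex_d 0 1 0 1 rfl rfl, Category.assoc, Iso.inv_hom_id_assoc, ← Category.assoc]
    erw [R.ι_f_zero_comp_complex_d]
    rw [zero_comp]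
  have h₀ : (ShortComplex.mk η (I.d 0 1) w₀).Exact := by
    refine ShortComplex.exact_of_iso (ShortComplex.isoMk (S₁ := ShortComplex.mk (R.ι.f 0) (R.cocomplex.d 0 1) R.ι_f_zero_comp_complex_d) (Iso.refl _) (R.cochainComplexXIso 0 0 rfl).symm
      (R.cochainComplexXIso 1 1 rfl).symm ?_ ?_) R.exact₀
    · exact Category.id_comp _
    · show (R.cochainComplexXIso 0 0 rfl).inv ≫ I.d 0 1 = R.cocomplex.d 0 1 ≫ (R.cochainComplexXIso 1 1 rfl).inv
      rw [R.cochainComplex_d 0 1 0 1 rfl rfl, Iso.inv_hom_id_assoc]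
  have h₁ : (ShortComplex.mk (I.d 0 1) (I.d 1 2) (I.d_comp_d 0 1 2)).Exact := by
    refine ShortComplex.exact_of_iso (ShortComplex.isoMk (S₁ := ShortComplex.mk (R.cocomplex.d 0 1) (R.cocomplex.d 1 2) (R.cocomplex.d_comp_d 0 1 2)) (R.cochainComplexXIso 0 0 rfl).symm
      (R.cochainComplexXIso 1 1 rfl).symm (R.cochainComplexXIso 2 2 rfl).symm ?_ ?_) (R.exact_succ 0)
    · show (R.cochainComplexXIso 0 0 rfl).inv ≫ I.d 0 1 = R.cocomplex.d 0 1 ≫ (R.cochainComplexXIso 1 1 rfl).inv
      rw [R.cochainComplex_d 0 1 0 1 rfl rfl, Iso.inv_hom_id_assoc]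
    · show (R.cochainComplexXIso 1 1 rfl).inv ≫ I.d 1 2 = R.cocomplex.d 1 2 ≫ (R.cochainComplexXIso 2 2 rfl).inv
      rw [R.cochainComplex_d 1 2 1 2 rfl rfl, Iso.inv_hom_id_assoc]
  obtain ⟨Y₀, hY₀⟩ := exists_global_primitive hdim f hbir hXn η (I.d 0 1) (I.d 1 2) w₀ (I.d_comp_d 0 1 2) h₀ h₁ z
    (by
      show (I.d 1 2).app ⊤ (res (I.X 1) hW _) = 0
      rw [app_res]
      exact (congrArg (res (I.X 2) hW) (show (I.d 1 2).app W z₀ = 0 from hz₀)).trans (map_zero _))
    U hU (show Γ(I.X 0, U) from secEquiv V _ h) (by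
      show (I.d 0 1).app U _ = res (I.X 1) le_top (res (I.X 1) hW _)
      rw [res_res]
      exact hy₀)
  let h' : M ⟶ J.X 0 := (secEquiv (⊤ : S.Opens) (J.X 0)).symm
    (show Γ(I.X 0, W) from res (I.X 0) (le_top : W ≤ ⊤) Y₀)
  refine Q_map_eq_zero_of_d x₀ h' ((secEquiv (⊤ : S.Opens) _).injective ?_)
  rw [secEquiv_naturality, Equiv.apply_symm_apply]
  show (I.d 0 1).app W (res (I.X 0) le_top Y₀) = z₀
  rw [app_res, hY₀]
  show res (I.X 1) _ (res (I.X 1) hW _) = z₀
  rw [res_res]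
  exact AModX.res_self _

end Groth.Agent.GRVal
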