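import Mathlib
import Groth.Agent.GRVal.Cocycle
import Groth.Agent.KFlatLib.Ring.LTenLinear
import Groth.Agent.KFlatLib.Scheme.RpushQCoh
import Groth.Prelude.Def_Wider

/-!
# `Hom(κ[-1], Rf_* O) = 0` for modifications of normal surface germs
-/

set_option autoImplicit false
set_option linter.style.haveILetI false
set_option linter.unusedSectionVars false
set_option backward.isDefEq.respectTransparency false
set_option backward.isDefEq.respectTransparency.types false
set_option maxHeartbeats 800000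

universe u

open CategoryTheory CategoryTheory.Limits AlgebraicGeometry TopologicalSpace IsLocalRing Opposite
open Pretriangulated

attribute [local instance] HasDerivedCategory.standard

noncomputable section

namespace Groth.Agent.GRVal

variable {A : Type u} [CommRing A] [IsDomain A] [IsLocalRing A] [IsNoetherianRing A] [IsIntegrallyClosed A]

theorem additive_tilde (R : CommRingCat.{u}) : (tilde.functor R).Additive := inferInstance

theorem preservesFiniteColimits_tilde (R : CommRingCat.{u}) : PreservesFiniteColimits (tilde.functor R) :=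
  haveI : (tilde.functor R).IsLeftAdjoint := tilde.adjunction.isLeftAdjoint
  haveI : PreservesColimitsOfSize.{0, 0} (tilde.functor R) := tilde.adjunction.leftAdjoint_preservesColimits
  ⟨fun _ => inferInstance⟩

instance preservesFiniteColimits_tilde_of : PreservesFiniteColimits (tilde.functor (CommRingCat.of A)) :=
  preservesFiniteColimits_tilde _

instance additive_tilde_of : (tilde.functor (CommRingCat.of A)).Additive := additive_tilde _

/-- The maximal ideal sequence. -/
def seqMax : ShortComplex (ModuleCat.{u} (CommRingCat.of A)) :=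
  ShortComplex.mk (X₁ := ModuleCat.of A (maximalIdeal A)) (X₂ := ModuleCat.of A A)
    (X₃ := ModuleCat.of A (ResidueField A)) (ModuleCat.ofHom (maximalIdeal A).subtype)
    (ModuleCat.ofHom (Algebra.linearMap A (ResidueField A))) (by
      ext x
      exact (residue_eq_zero_iff _).2 x.2)

theorem shortExact_seqMax : (seqMax (A := A)).ShortExact where
  exact := (ShortComplex.moduleCat_exact_iff _).2 fun (x : A) hx =>
    ⟨⟨x, (residue_eq_zero_iff (R := A) x).1 hx⟩, rfl⟩
  mono_f := (ModuleCat.mono_iff_injective _).2 Subtype.val_injective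
  epi_g := (ModuleCat.epi_iff_surjective _).2 (residue_surjective (R := A))

theorem residueField_smul_eq_zero (t : A) (ht : t ∈ maximalIdeal A)
    (k : ((seqMax (A := A)).X₃ : Type u)) : t • k = 0 := by
  change ResidueField A at k
  show t • k = 0
  rw [Algebra.smul_def, show algebraMap A (ResidueField A) t = 0 from (residue_eq_zero_iff _).2 ht, zero_mul]

variable {X : Scheme.{u}} [IsIntegral X] (f : X ⟶ Spec (CommRingCat.of A)) [IsProper f]

local notation "T" => tilde.functor (CommRingCat.of A)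

/-- Maps from the maximal ideal to the direct image of the structure sheaf extend. -/
theorem exists_extension (hdim : ringKrullDim A = 2)
    (hbir : ∃ U : (Spec (CommRingCat.of A)).Opens, (U : Set (Spec (CommRingCat.of A))).Nonempty ∧ IsIso (f ∣_ U))
    (hXn : Pi1.IsNormalScheme X)
    (a : (T).obj seqMax.X₁ ⟶ (Scheme.Modules.pushforward f).obj (Coh.structureModule X)) :
    ∃ b : (T).obj seqMax.X₂ ⟶ (Scheme.Modules.pushforward f).obj (Coh.structureModule X),
      (T).map seqMax.f ≫ b = a := by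
  let P := (Scheme.Modules.pushforward f).obj (Coh.structureModule X)
  let adj := tilde.adjunction (R := CommRingCat.of A)
  let α := adj.homEquiv _ _ a
  have key : ∀ (r : A) (x : Γ(X, ⊤)),
      r • (show ((moduleSpecΓFunctor (R := CommRingCat.of A)).obj P : Type u) from x) =
        (show ((moduleSpecΓFunctor (R := CommRingCat.of A)).obj P : Type u) from baseHom f r * x) := by
    intro r x
    show (show Γ(X, ⊤) from (f.app ⊤).hom ((Spec (CommRingCat.of A)).presheaf.map (Opens.leTop (⊤ : (Spec (CommRingCat.of A)).Opens)).op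
      ((Scheme.ΓSpecIso (CommRingCat.of A)).inv r))) * x = _
    rw [show (Opens.leTop (⊤ : (Spec (CommRingCat.of A)).Opens)).op = 𝟙 _ from rfl, CategoryTheory.Functor.map_id]
    rfl
  obtain ⟨S, hS⟩ := exists_eq_mul f hdim hbir hXn
    (fun m => (show Γ(X, ⊤) from α.hom (show (seqMax (A := A)).X₁ from m))) fun r m =>
      (α.hom.map_smul r m).trans (key r _)
  let β : seqMax.X₂ ⟶ moduleSpecΓFunctor.obj P :=
    (KFlatLib.evalOne (R := CommRingCat.of A) (moduleSpecΓFunctor.obj P)).symm S
  refine ⟨(adj.homEquiv _ _).symm β, ?_⟩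
  rw [← adj.homEquiv_naturality_left_symm, Equiv.symm_apply_eq]
  refine ModuleCat.hom_ext (LinearMap.ext fun m => ?_)
  exact (key _ S).trans (hS m).symm

variable [PreservesFiniteLimits (tilde.functor (CommRingCat.of A))] [DCoh.HasRpush f]

theorem shortExact_tilde_seqMax : ((seqMax (A := A)).map (T)).ShortExact :=
  haveI : PreservesFiniteColimits (T) := preservesFiniteColimits_tilde _
  shortExact_seqMax.map_of_exact _

variable (A) in
/-- Modules in degree zero. -/
abbrev D₀ : (Spec (CommRingCat.of A)).Modules ⥤ DCoh.D (Spec (CommRingCat.of A)) :=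
  DerivedCategory.singleFunctor _ 0

/-- The derived direct image of the structure sheaf. -/
abbrev KR : DCoh.D (Spec (CommRingCat.of A)) := (DCoh.Rpush f).obj (DCoh.inD X (Coh.structureModule X))

/-- Maps from the maximal ideal to `Rf_* O` extend to the structure sheaf. -/
theorem exists_factor (hdim : ringKrullDim A = 2)
    (hbir : ∃ U : (Spec (CommRingCat.of A)).Opens, (U : Set (Spec (CommRingCat.of A))).Nonempty ∧ IsIso (f ∣_ U))
    (hXn : Pi1.IsNormalScheme X) (ψ : (D₀ A).obj ((T).obj seqMax.X₁) ⟶ (KR f)) :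
    ∃ χ : (D₀ A).obj ((T).obj seqMax.X₂) ⟶ (KR f), (D₀ A).map ((T).map seqMax.f) ≫ χ = ψ := by
  haveI : ((KR f)).IsGE 0 := KFlatLib.isGE_rpush f _ 0
  obtain ⟨G'⟩ := KFlatLib.nonempty_hd_rpush_single f (Coh.structureModule X) 0
  let G : (DerivedCategory.homologyFunctor _ 0).obj (KR f) ≅
      (Scheme.Modules.pushforward f).obj (Coh.structureModule X) :=
    G' ≪≫ (Scheme.Modules.pushforward f).rightDerivedZeroIsoSelf.app _
  have hb : ∀ F, Function.Bijective (KFlatLib.psiC 0 F (KR f)) := fun F =>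
    ((Iso.homFromEquiv (KFlatLib.hSingle 0 F)).bijective.comp
      (KFlatLib.bijective_homologyMap (X := (D₀ A).obj F) (Y := (KR f)) 0))
  obtain ⟨b, hb'⟩ := exists_extension f hdim hbir hXn (KFlatLib.psiC 0 _ (KR f) ψ ≫ G.hom)
  obtain ⟨χ, hχ⟩ := (hb _).2 (b ≫ G.inv)
  refine ⟨χ, (hb _).1 ?_⟩
  rw [KFlatLib.psiC_single_map, hχ, ← Category.assoc, hb', Category.assoc, G.hom_inv_id, Category.comp_id]

/-- Maps from the shifted residue field die on the structure sheaf. -/
theorem shift_comp_eq_zero (hdim : ringKrullDim A = 2)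
    (hbir : ∃ U : (Spec (CommRingCat.of A)).Opens, (U : Set (Spec (CommRingCat.of A))).Nonempty ∧ IsIso (f ∣_ U))
    (hXn : Pi1.IsNormalScheme X) (φ : ((D₀ A).obj ((T).obj seqMax.X₃))⟦(-1 : ℤ)⟧ ⟶ (KR f)) :
    ((D₀ A).map ((T).map seqMax.g))⟦(-1 : ℤ)⟧' ≫ φ = 0 := by
  obtain ⟨R⟩ := (inferInstance : HasInjectiveResolution (Coh.structureModule X)).out
  haveI : R.cochainComplex.IsKInjective := CochainComplex.isKInjective_of_injective _ 0
  obtain ⟨eK⟩ := KFlatLib.nonempty_rpush_iso_of_kInjective f (I := R.cochainComplex)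
    (K := DCoh.inD X (Coh.structureModule X))
    ((asIso (DerivedCategory.Q.map R.ι')).symm ≪≫
      (((SingleFunctors.evaluation _ _ 0).mapIso
        (DerivedCategory.singleFunctorsPostcompQIso X.Modules)).app (Coh.structureModule X)).symm)
  let C := (Spec (CommRingCat.of A)).Modules
  let E : D₀ A ⋙ shiftFunctor _ (-1 : ℤ) ≅
      CochainComplex.singleFunctor C 1 ⋙ DerivedCategory.Q :=
    (DerivedCategory.singleFunctors C).shiftIso (-1) 1 0 (by omega) ≪≫ DerivedCategory.singleFunctorIsoCompQ C 1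
  let p : KFlatLib.secObj (⊤ : (Spec (CommRingCat.of A)).Opens) ⟶ (T).obj seqMax.X₃ :=
    KFlatLib.tildeRIsoSecObj.inv ≫ (T).map seqMax.g
  have h := single_map_comp_eq_zero hdim f hbir hXn R (Mq := (T).obj seqMax.X₃)
    (fun W hW s => tilde_section_eq_zero (R := CommRingCat.of A) _ residueField_smul_eq_zero W hW s)
    p (E.inv.app _ ≫ φ ≫ eK.hom)
  have hn : DerivedCategory.Q.map ((CochainComplex.singleFunctor C 1).map p) ≫ E.inv.app _ =
      E.inv.app _ ≫ ((D₀ A).map p)⟦(-1 : ℤ)⟧' := E.inv.naturality p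
  have h2 : ((D₀ A).map p)⟦(-1 : ℤ)⟧' ≫ φ = 0 := by
    rw [← cancel_epi (E.inv.app _), ← cancel_mono eK.hom, comp_zero, zero_comp, ← Category.assoc (E.inv.app _),
      ← hn, Category.assoc, Category.assoc]
    exact h
  rw [show (T).map (seqMax (A := A)).g = KFlatLib.tildeRIsoSecObj.hom ≫ p from
    (Iso.hom_inv_id_assoc _ _).symm, Functor.map_comp, Functor.map_comp, Category.assoc, h2, comp_zero]

/-- The morphisms `κ[-1] ⟶ Rf_* O` vanish. -/
theorem subsingleton_hom (hdim : ringKrullDim A = 2)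
    (hbir : ∃ U : (Spec (CommRingCat.of A)).Opens, (U : Set (Spec (CommRingCat.of A))).Nonempty ∧ IsIso (f ∣_ U))
    (hXn : Pi1.IsNormalScheme X) :
    Subsingleton (((DCoh.tildeD (CommRingCat.of A)).obj (Dual.inD A (ResidueField A)))⟦(-1 : ℤ)⟧ ⟶
      (DCoh.Rpush f).obj (DCoh.inD X (Coh.structureModule X))) := by
  suffices h : ∀ φ : ((D₀ A).obj ((T).obj seqMax.X₃))⟦(-1 : ℤ)⟧ ⟶ (KR f), φ = 0 by
    let e : (DCoh.tildeD (CommRingCat.of A)).obj (Dual.inD A (ResidueField A)) ≅ (D₀ A).obj ((T).obj seqMax.X₃) :=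
      ((T).mapDerivedCategorySingleFunctor 0).app seqMax.X₃
    refine ⟨fun φ φ' => ?_⟩
    rw [← cancel_epi ((shiftFunctor _ (-1 : ℤ)).map e.inv)]
    exact (h _).trans (h _).symm
  intro φ
  let hS := shortExact_tilde_seqMax (A := A)
  let u : ∀ N, (((D₀ A).obj N)⟦(-1 : ℤ)⟧)⟦(1 : ℤ)⟧ ≅ (D₀ A).obj N := fun N =>
    (shiftFunctorCompIsoId (DCoh.D (Spec (CommRingCat.of A))) (-1 : ℤ) 1 (by omega)).app ((D₀ A).obj N)
  let θ : (D₀ A).obj ((T).obj seqMax.X₃) ⟶ ((KR f))⟦(1 : ℤ)⟧ := (u _).inv ≫ φ⟦(1 : ℤ)⟧'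
  have hg : (D₀ A).map ((T).map seqMax.g) ≫ θ = 0 := by
    have hn : (D₀ A).map ((T).map seqMax.g) ≫ (u _).inv =
        (u _).inv ≫ (((D₀ A).map ((T).map seqMax.g))⟦(-1 : ℤ)⟧')⟦(1 : ℤ)⟧' :=
      (shiftFunctorCompIsoId (DCoh.D (Spec (CommRingCat.of A))) (-1 : ℤ) 1 (by omega)).inv.naturality
        ((D₀ A).map ((T).map seqMax.g))
    rw [← Category.assoc, hn, Category.assoc, ← Functor.map_comp, shift_comp_eq_zero f hdim hbir hXn φ,
      Functor.map_zero, comp_zero]
  obtain ⟨ψ', hψ'⟩ := Triangle.yoneda_exact₃ _ hS.singleTriangle_distinguished θ hg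
  obtain ⟨ψ, hψ⟩ := (shiftFunctor (DCoh.D (Spec (CommRingCat.of A))) (1 : ℤ)).map_surjective ψ'
  obtain ⟨χ, hχ⟩ := exists_factor f hdim hbir hXn ψ
  have h0 : θ = 0 := by
    rw [hψ', ← hψ, ← hχ, Functor.map_comp, ← Category.assoc]
    exact (congrArg (· ≫ _) (comp_distTriang_mor_zero₃₁ _ hS.singleTriangle_distinguished)).trans zero_comp
  refine (shiftFunctor (DCoh.D (Spec (CommRingCat.of A))) (1 : ℤ)).map_injective ?_
  rw [Functor.map_zero, ← cancel_epi (u _).inv, comp_zero]
  exact h0

end Groth.Agent.GRVal
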